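import Mathlib

set_option autoImplicit false

namespace Cfsg.Agent.S3420L

/-- aux: `2 * |A_n| = n!` for `n ≥ 2`. -/
theorem AR_two_mul_card_alt {n : ℕ} (hn : 2 ≤ n) :
    2 * Nat.card ↥(alternatingGroup (Fin n)) = n.factorial := by
  haveI : Nontrivial (Fin n) := Fin.nontrivial_iff_two_le.mpr hn
  rw [Nat.card_eq_fintype_card, two_mul_card_alternatingGroup, Fintype.card_perm, Fintype.card_fin]

theorem prime_dvd_card_alt {n p : ℕ} (hn : 11 ≤ n) (hp : p.Prime) (h1 : n < 2 * p) (h2 : p ≤ n) :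
    p ∣ Nat.card ↥(alternatingGroup (Fin n)) := by
  have h2n : 2 ≤ n := by omega
  have hfac : p ∣ n.factorial := (Nat.Prime.dvd_factorial hp).mpr h2
  rw [← AR_two_mul_card_alt h2n] at hfac
  have hcop : Nat.Coprime p 2 := by
    rw [Nat.coprime_primes hp Nat.prime_two]
    omega
  exact hcop.dvd_of_dvd_mul_left hfac

theorem prime_sq_not_dvd_card_alt {n p : ℕ} (hn : 11 ≤ n) (hp : p.Prime) (h1 : n < 2 * p)
    (h2 : p ≤ n) : ¬ p ^ 2 ∣ Nat.card ↥(alternatingGroup (Fin n)) := by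
  intro hdvd
  have h2n : 2 ≤ n := by omega
  have hfac : p ^ 2 ∣ n.factorial := by
    rw [← AR_two_mul_card_alt h2n]
    exact Dvd.dvd.mul_left hdvd 2
  have hp6 : 6 ≤ p := by omega
  have hnp2 : n < p ^ 2 := by nlinarith
  have hlog : Nat.log p n < 2 := Nat.log_lt_of_lt_pow (by omega) hnp2
  rw [hp.pow_dvd_factorial_iff hlog] at hfac
  have hdiv : n / p = 1 := by
    apply Nat.div_eq_of_lt_le
    · omega
    · omega
  simp [hdiv] at hfac

theorem not_dvd_pred {n p r : ℕ} (hn : 11 ≤ n) (hp : p.Prime) (hr : r.Prime) (hpr : p ≠ r)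
    (hp1 : n < 2 * p) (hp2 : p ≤ n) (hr1 : n < 2 * r) (hr2 : r ≤ n) : ¬ r ∣ p - 1 := by
  rintro ⟨k, hk⟩
  have hp6 : 6 ≤ p := by omega
  have hr6 : 6 ≤ r := by omega
  rcases Nat.lt_or_ge k 2 with hk2 | hk2
  · interval_cases k
    · omega
    · -- p = r + 1: parity
      have hpodd : p % 2 = 1 := by
        rcases hp.eq_two_or_odd with h | h
        · omega
        · exact h
      have hrodd : r % 2 = 1 := by
        rcases hr.eq_two_or_odd with h | h
        · omega
        · exact h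
      omega
  · have : 2 * r ≤ r * k := by nlinarith
    omega

end Cfsg.Agent.S3420L
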