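import Mathlib

set_option autoImplicit false
set_option linter.style.haveILetI false
open scoped Pointwise

namespace Cfsg.Agent.S3420L

/-! # S3420 piece CS : a chief factor whose order is divisible by `p ∥ |G|` is simple (helper4) -/

variable {G : Type*} [Group G]

/-- `(a b)^k = a' b^k` with `a' ∈ A` when `b` normalizes `A`. -/
theorem CS_mul_pow {A : Subgroup G} {a b : G} (ha : a ∈ A) (hb : b ∈ Subgroup.normalizer (A : Set G)) (k : ℕ) :
    ∃ a' ∈ A, (a * b) ^ k = a' * b ^ k := by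
  induction k with
  | zero => exact ⟨1, A.one_mem, by simp⟩
  | succ k ih =>
    obtain ⟨a', ha', h⟩ := ih
    refine ⟨a' * (b ^ k * a * (b ^ k)⁻¹), A.mul_mem ha' ?_, ?_⟩
    · have hbk : b ^ k ∈ Subgroup.normalizer (A : Set G) := pow_mem hb k
      exact (Subgroup.mem_normalizer_iff.1 hbk a).1 ha
    · rw [pow_succ, h, pow_succ]
      group

/-- a join of two subgroups without elements of order `p`, one normalizing the other, has no
element of order `p`. -/
theorem CS_not_dvd_card_sup [Finite G] {p : ℕ} (hp : p.Prime) {A B : Subgroup G}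
    (hBA : B ≤ Subgroup.normalizer (A : Set G)) (hA : ¬ p ∣ Nat.card A) (hB : ¬ p ∣ Nat.card B) :
    ¬ p ∣ Nat.card (A ⊔ B : Subgroup G) := by
  intro h
  haveI : Fact p.Prime := ⟨hp⟩
  obtain ⟨z, hz⟩ := exists_prime_orderOf_dvd_card' p h
  have hzmem : (z : G) ∈ A ⊔ B := z.2
  have hcoe : ((A ⊔ B : Subgroup G) : Set G) = (A : Set G) * (B : Set G) :=
    Subgroup.coe_mul_of_right_le_normalizer_left A B hBA
  have hz' : (z : G) ∈ (A : Set G) * (B : Set G) := by
    rw [← hcoe]; exact hzmem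
  obtain ⟨a, ha, b, hb, hab⟩ := Set.mem_mul.1 hz'
  set e := orderOf b with he
  have hpe : ¬ p ∣ e := fun hd => hB (hd.trans (by
    have : orderOf (⟨b, hb⟩ : B) = orderOf b := Subgroup.orderOf_mk b hb
    rw [he, ← this]; exact orderOf_dvd_natCard _))
  obtain ⟨a', ha', hpow⟩ := CS_mul_pow (A := A) ha (hBA hb) e
  rw [pow_orderOf_eq_one, mul_one, hab] at hpow
  -- (z : G)^e = a' ∈ A has order p
  have hzord : orderOf (z : G) = p := by rw [Subgroup.orderOf_coe]; exact hz
  have hord : orderOf ((z : G) ^ e) = p := by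
    rw [orderOf_pow, hzord]
    have : Nat.gcd p e = 1 := (Nat.Prime.coprime_iff_not_dvd hp).2 hpe
    rw [this, Nat.div_one]
  rw [hpow] at hord
  apply hA
  have : orderOf (⟨a', ha'⟩ : A) = p := by rw [Subgroup.orderOf_mk]; exact hord
  rw [← this]
  exact orderOf_dvd_natCard _


/-- the conjugate `g M g⁻¹`. -/
def CS_conj (g : G) (M : Subgroup G) : Subgroup G := M.map (MulAut.conj g).toMonoidHom

theorem CS_mem_conj {g : G} {M : Subgroup G} {x : G} : x ∈ CS_conj g M ↔ ∃ m ∈ M, g * m * g⁻¹ = x := by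
  simp [CS_conj, Subgroup.mem_map]

theorem CS_card_conj (g : G) (M : Subgroup G) : Nat.card (CS_conj g M) = Nat.card M :=
  Subgroup.card_map_of_injective (MulAut.conj g).injective

theorem CS_le_conj {N M : Subgroup G} [N.Normal] (h : N ≤ M) (g : G) : N ≤ CS_conj g M := by
  intro n hn
  refine CS_mem_conj.2 ⟨g⁻¹ * n * g, h ?_, by group⟩
  have := (inferInstance : N.Normal).conj_mem n hn g⁻¹
  simpa using this

theorem CS_conj_le {H M : Subgroup G} [H.Normal] (h : M ≤ H) (g : G) : CS_conj g M ≤ H := by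
  intro x hx
  obtain ⟨m, hm, rfl⟩ := CS_mem_conj.1 hx
  exact (inferInstance : H.Normal).conj_mem m (h hm) g

theorem CS_normalizer_conj {H M : Subgroup G} [H.Normal]
    (h : H ≤ Subgroup.normalizer (M : Set G)) (g : G) :
    H ≤ Subgroup.normalizer ((CS_conj g M : Subgroup G) : Set G) := by
  rw [Subgroup.le_normalizer_iff] at h ⊢
  intro x hx k hk
  obtain ⟨m, hm, rfl⟩ := CS_mem_conj.1 hk
  refine CS_mem_conj.2 ⟨(g⁻¹ * x * g) * m * (g⁻¹ * x * g)⁻¹, h _ ?_ m hm, by group⟩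
  have := (inferInstance : H.Normal).conj_mem x hx g⁻¹
  simpa using this

/-- (ii') an `H`-normal `p'`-subgroup between `N` and `H` is `N`. -/
theorem CS_eq_of_not_dvd [Finite G] {p : ℕ} (hp : p.Prime) {N H : Subgroup G} [N.Normal]
    [H.Normal] (hpH : p ∣ Nat.card H)
    (hNmax : ∀ L : Subgroup G, L.Normal → N ≤ L → L < H → L ≤ N)
    {M : Subgroup G} (hNM : N ≤ M) (hMH : M ≤ H)
    (hnorm : H ≤ Subgroup.normalizer (M : Set G)) (hpM : ¬ p ∣ Nat.card M) : M = N := by
  obtain ⟨Mx, hMMx, hmax⟩ := Finite.exists_le_maximal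
    (p := fun M' : Subgroup G => N ≤ M' ∧ M' ≤ H ∧ H ≤ Subgroup.normalizer (M' : Set G) ∧
      ¬ p ∣ Nat.card M') (a := M) ⟨hNM, hMH, hnorm, hpM⟩
  obtain ⟨h1, h2, h3, h4⟩ := hmax.prop
  have hnormal : Mx.Normal := by
    refine ⟨fun n hn g => ?_⟩
    have hc : CS_conj g Mx ≤ Mx := by
      have hmem : (fun M' : Subgroup G => N ≤ M' ∧ M' ≤ H ∧
          H ≤ Subgroup.normalizer (M' : Set G) ∧ ¬ p ∣ Nat.card M') (Mx ⊔ CS_conj g Mx) := by
        refine ⟨h1.trans le_sup_left, sup_le h2 (CS_conj_le h2 g), ?_, ?_⟩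
        · exact (le_inf h3 (CS_normalizer_conj h3 g)).trans
            (Subgroup.normalizer_inf_normalizer_le_normalizer_sup _ _)
        · apply CS_not_dvd_card_sup hp ((CS_conj_le h2 g).trans h3) h4
          rw [CS_card_conj]; exact h4
      exact le_sup_right.trans (hmax.le_of_ge hmem le_sup_left)
    exact hc (CS_mem_conj.2 ⟨n, hn, rfl⟩)
  have hlt : Mx < H := by
    refine lt_of_le_of_ne h2 ?_
    rintro rfl
    exact h4 hpH
  exact le_antisymm (hMMx.trans (hNmax Mx hnormal h1 hlt)) hNM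

/-- (i') an `H`-normal subgroup of `H` of index prime to `p` is `H`, if `H` is a minimal
`G`-normal subgroup of order divisible by `p`. -/
theorem CS_le_of_not_dvd_relIndex [Finite G] {p : ℕ} (hp : p.Prime) {H : Subgroup G} [H.Normal]
    (hpH : p ∣ Nat.card H)
    (hHmin : ∀ L : Subgroup G, L.Normal → p ∣ Nat.card L → L ≤ H → H ≤ L)
    {M : Subgroup G} (hMH : M ≤ H) (hnorm : H ≤ Subgroup.normalizer (M : Set G))
    (hrel : ¬ p ∣ M.relIndex H) : H ≤ M := by
  haveI : Fact p.Prime := ⟨hp⟩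
  set S : Set G := {z | z ∈ H ∧ orderOf z = p} with hS
  have hLn : (Subgroup.closure S).Normal := by
    refine ⟨fun n hn g => ?_⟩
    induction hn using Subgroup.closure_induction with
    | mem x hx =>
      refine Subgroup.subset_closure ⟨(inferInstance : H.Normal).conj_mem x hx.1 g, ?_⟩
      rw [← hx.2]
      exact (MulAut.conj g).orderOf_eq x
    | one => simp
    | mul x y _ _ hx hy =>
      have : g * (x * y) * g⁻¹ = (g * x * g⁻¹) * (g * y * g⁻¹) := by group
      rw [this]; exact mul_mem hx hy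
    | inv x _ hx =>
      have : g * x⁻¹ * g⁻¹ = (g * x * g⁻¹)⁻¹ := by group
      rw [this]; exact inv_mem hx
  have hLH : Subgroup.closure S ≤ H := (Subgroup.closure_le _).2 fun z hz => hz.1
  obtain ⟨y, hy⟩ := exists_prime_orderOf_dvd_card' p hpH
  have hyS : (y : G) ∈ S := ⟨y.2, by rw [Subgroup.orderOf_coe]; exact hy⟩
  have hpL : p ∣ Nat.card (Subgroup.closure S) := by
    have h1 : orderOf (⟨(y : G), Subgroup.subset_closure hyS⟩ : Subgroup.closure S) = p := by
      rw [Subgroup.orderOf_mk]; exact hyS.2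
    rw [← h1]; exact orderOf_dvd_natCard _
  refine (hHmin _ hLn hpL hLH).trans ((Subgroup.closure_le _).2 ?_)
  rintro z ⟨hzH, hzp⟩
  haveI : (M.subgroupOf H).Normal := (Subgroup.normal_subgroupOf_iff_le_normalizer hMH).2 hnorm
  set q : ↥H ⧸ M.subgroupOf H := QuotientGroup.mk ⟨z, hzH⟩ with hq
  have h1 : orderOf q ∣ p := by
    apply orderOf_dvd_of_pow_eq_one
    rw [hq, ← QuotientGroup.mk_pow]
    have : (⟨z, hzH⟩ : ↥H) ^ p = 1 := by
      apply Subtype.ext
      simp only [Subgroup.coe_pow, Subgroup.coe_one]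
      rw [← hzp]; exact pow_orderOf_eq_one z
    rw [this]; rfl
  have h2 : orderOf q ∣ M.relIndex H := by
    have : M.relIndex H = Nat.card (↥H ⧸ M.subgroupOf H) := by
      rw [Subgroup.relIndex, Subgroup.index_eq_card]
    rw [this]; exact orderOf_dvd_natCard q
  have h3 : orderOf q = 1 := by
    have hcop : Nat.Coprime p (M.relIndex H) := (Nat.Prime.coprime_iff_not_dvd hp).2 hrel
    exact Nat.eq_one_of_dvd_coprimes hcop h1 h2
  have h4 : q = 1 := orderOf_eq_one_iff.1 h3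
  have h5 : (⟨z, hzH⟩ : ↥H) ∈ M.subgroupOf H := (QuotientGroup.eq_one_iff _).1 h4
  exact Subgroup.mem_subgroupOf.1 h5


theorem CS_relIndex_mul_card [Finite G] {M H : Subgroup G} (h : M ≤ H) :
    M.relIndex H * Nat.card M = Nat.card H := by
  have h1 := Subgroup.index_mul_card (M.subgroupOf H)
  have h2 : Nat.card (M.subgroupOf H) = Nat.card M :=
    Nat.card_congr (Subgroup.subgroupOfEquivOfLe h).toEquiv
  rw [h2] at h1
  exact h1

/-- choice of the chief factor `H/N` with `p ∣ |H/N|`, and the simplicity lemma in `G`-terms. -/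
theorem CS_chief [Finite G] (p : ℕ) (hp : p.Prime) (hp1 : p ∣ Nat.card G)
    (hp2 : ¬ p ^ 2 ∣ Nat.card G) :
    ∃ (N H : Subgroup G) (_ : N.Normal) (_ : H.Normal), N < H ∧ p ∣ Nat.card H ∧
      ¬ p ∣ Nat.card N ∧
      ∀ M : Subgroup G, N ≤ M → M ≤ H → H ≤ Subgroup.normalizer (M : Set G) → M = N ∨ M = H := by
  obtain ⟨H, -, hHmin⟩ := Finite.exists_le_minimal
    (p := fun K : Subgroup G => K.Normal ∧ p ∣ Nat.card K) (a := ⊤)
    ⟨inferInstance, by rwa [Subgroup.card_top]⟩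
  obtain ⟨hHn, hpH⟩ := hHmin.prop
  haveI := hHn
  have hHbot : H ≠ ⊥ := by
    rintro rfl
    rw [Subgroup.card_bot] at hpH
    exact hp.one_lt.ne' (Nat.dvd_one.1 hpH)
  obtain ⟨N, -, hNmax⟩ := Finite.exists_le_maximal
    (p := fun L : Subgroup G => L.Normal ∧ L < H) (a := ⊥)
    ⟨inferInstance, bot_lt_iff_ne_bot.2 hHbot⟩
  obtain ⟨hNn, hNH⟩ := hNmax.prop
  haveI := hNn
  have hpN : ¬ p ∣ Nat.card N := fun h =>
    absurd (hHmin.le_of_le ⟨hNn, h⟩ hNH.le) (not_le_of_gt hNH)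
  have hHmin' : ∀ L : Subgroup G, L.Normal → p ∣ Nat.card L → L ≤ H → H ≤ L :=
    fun L h1 h2 h3 => hHmin.le_of_le ⟨h1, h2⟩ h3
  have hNmax' : ∀ L : Subgroup G, L.Normal → N ≤ L → L < H → L ≤ N :=
    fun L h1 h2 h3 => hNmax.le_of_ge ⟨h1, h3⟩ h2
  refine ⟨N, H, hNn, hHn, hNH, hpH, hpN, ?_⟩
  intro M hNM hMH hnorm
  by_cases hrel : p ∣ M.relIndex H
  · left
    have hcard := CS_relIndex_mul_card hMH
    have hpM : ¬ p ∣ Nat.card M := by
      intro h
      apply hp2
      have h2 : p ^ 2 ∣ Nat.card H := by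
        rw [← hcard, pow_two]; exact mul_dvd_mul hrel h
      exact h2.trans (Subgroup.card_subgroup_dvd_card H)
    exact CS_eq_of_not_dvd hp hpH hNmax' hNM hMH hnorm hpM
  · right
    exact le_antisymm hMH (CS_le_of_not_dvd_relIndex hp hpH hHmin' hMH hnorm hrel)

end Cfsg.Agent.S3420L
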