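import Mathlib

/-!
# S3420 piece F (helper8): Frattini + Cauchy + `|Aut Z_q| = q - 1`
-/

set_option autoImplicit false
set_option linter.unusedSectionVars false

namespace Cfsg.Agent.S3420L

/-- iterating a conjugation that raises `y` to the `k`-th power -/
theorem F_conj_pow {X : Type*} [Group X] (x y : X) (k : ℕ) (h : x * y * x⁻¹ = y ^ k) (j : ℕ) :
    x ^ j * y * (x ^ j)⁻¹ = y ^ (k ^ j) := by
  induction j with
  | zero => simp
  | succ j ih =>
    have h1 : x ^ (j + 1) * y * (x ^ (j + 1))⁻¹ = x * (x ^ j * y * (x ^ j)⁻¹) * x⁻¹ := by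
      rw [pow_succ']; group
    rw [h1, ih]
    have h2 : x * y ^ (k ^ j) * x⁻¹ = (x * y * x⁻¹) ^ (k ^ j) := by
      rw [conj_pow]
    rw [h2, h, ← pow_mul, pow_succ, mul_comm]

/-- LB: `x` of prime order `p` normalizing `⟨y⟩` of prime order `r`, `p ∤ r - 1`: then `x y` has
order `p r` -/
theorem F_exists_orderOf_mul_of_normalizes {X : Type*} [Group X] [Finite X] {p r : ℕ}
    (hp : p.Prime) (hr : r.Prime) (hpr : p ≠ r) (hndvd : ¬ p ∣ r - 1) (x y : X)
    (hx : orderOf x = p) (hy : orderOf y = r) (hnorm : x * y * x⁻¹ ∈ Subgroup.zpowers y) :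
    ∃ g : X, orderOf g = p * r := by
  have : Fact r.Prime := ⟨hr⟩
  rw [← mem_powers_iff_mem_zpowers] at hnorm
  obtain ⟨k, hk⟩ := hnorm
  have hk' : x * y * x⁻¹ = y ^ k := hk.symm
  -- `k ^ p ≡ 1 mod r`
  have h1 : y ^ (k ^ p) = y ^ 1 := by
    rw [← F_conj_pow x y k hk' p, ← hx, pow_orderOf_eq_one]
    simp
  have h2 : k ^ p ≡ 1 [MOD r] := by
    rw [← hy]; exact pow_eq_pow_iff_modEq.1 h1
  have h3 : ((k : ZMod r)) ^ p = 1 := by
    have := (ZMod.natCast_eq_natCast_iff (k ^ p) 1 r).2 h2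
    simpa using this
  have hk0 : (k : ZMod r) ≠ 0 := by
    intro h0
    rw [h0, zero_pow hp.ne_zero] at h3
    exact zero_ne_one h3
  have h4 : ((k : ZMod r)) ^ (r - 1) = 1 := ZMod.pow_card_sub_one_eq_one hk0
  have h5 : orderOf (k : ZMod r) ∣ Nat.gcd p (r - 1) :=
    Nat.dvd_gcd (orderOf_dvd_of_pow_eq_one h3) (orderOf_dvd_of_pow_eq_one h4)
  have h6 : Nat.gcd p (r - 1) = 1 := (Nat.Prime.coprime_iff_not_dvd hp).2 hndvd
  rw [h6, Nat.dvd_one, orderOf_eq_one_iff] at h5
  have h7 : k ≡ 1 [MOD r] := by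
    apply (ZMod.natCast_eq_natCast_iff k 1 r).1
    simpa using h5
  have h8 : y ^ k = y ^ 1 := by
    apply pow_eq_pow_iff_modEq.2
    rw [hy]; exact h7
  rw [h8, pow_one] at hk'
  have hcomm : Commute x y := by
    have : x * y = y * x := by
      calc x * y = x * y * x⁻¹ * x := by group
        _ = y * x := by rw [hk']
    exact this
  refine ⟨x * y, ?_⟩
  rw [hcomm.orderOf_mul_eq_mul_orderOf_of_coprime (by rw [hx, hy]; exact (Nat.coprime_primes hp hr).2 hpr),
    hx, hy]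

/-- `K ⊴ G`, `q ∥ |G|`, `q ∣ |K|`, `s ∣ |G : K|` prime, `s ∤ q - 1` : an element of order `q s`. -/
theorem exists_orderOf_eq_mul {G : Type*} [Group G] [Finite G] (K : Subgroup G) [K.Normal]
    (q s : ℕ) (hq : q.Prime) (hs : s.Prime) (hne : q ≠ s) (hqK : q ∣ Nat.card K)
    (hq2 : ¬ q ^ 2 ∣ Nat.card G) (hsK : s ∣ K.index) (hsq : ¬ s ∣ q - 1) :
    ∃ g : G, orderOf g = q * s := by
  have : Fact q.Prime := ⟨hq⟩
  have : Fact s.Prime := ⟨hs⟩
  obtain ⟨P⟩ : Nonempty (Sylow q K) := inferInstance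
  set R : Subgroup G := (P : Subgroup K).map K.subtype with hR
  have hfr : Subgroup.normalizer (R : Set G) ⊔ K = ⊤ := Sylow.normalizer_sup_eq_top P
  -- `|R| = q`
  have hcardR : Nat.card R = q := by
    have e1 : Nat.card R = Nat.card (P : Subgroup K) :=
      Subgroup.card_map_of_injective (Subgroup.subtype_injective K)
    rw [e1]
    have h1 : q ∣ Nat.card (P : Subgroup K) := P.dvd_card_of_dvd_card hqK
    obtain ⟨j, hj⟩ := IsPGroup.iff_card.1 P.2
    have h2 : Nat.card (P : Subgroup K) ∣ Nat.card G :=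
      dvd_trans (Subgroup.card_subgroup_dvd_card _) (Subgroup.card_subgroup_dvd_card K)
    rw [hj] at h1 h2 ⊢
    have hj1 : j ≠ 0 := by
      rintro rfl
      rw [pow_zero, Nat.dvd_one] at h1
      exact hq.one_lt.ne' h1
    have hj2 : j < 2 := by
      by_contra hge
      exact hq2 (dvd_trans (pow_dvd_pow q (by omega)) h2)
    have : j = 1 := by omega
    rw [this, pow_one]
  -- a generator `y` of `R`
  have hRne : R ≠ ⊥ := by
    intro h
    rw [h, Subgroup.card_bot] at hcardR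
    exact hq.one_lt.ne hcardR
  obtain ⟨y, hy1⟩ := (Subgroup.ne_bot_iff_exists_ne_one).1 hRne
  have hyR' : (y : G) ∈ R := y.2
  have hy1' : (y : G) ≠ 1 := fun h => hy1 (Subtype.ext h)
  have hordy : orderOf (y : G) = q := by
    have h1 : orderOf (y : G) ∣ q := by
      rw [← hcardR]; exact Subgroup.orderOf_dvd_natCard R hyR'
    rcases (Nat.dvd_prime hq).1 h1 with h | h
    · exact absurd (orderOf_eq_one_iff.1 h) hy1'
    · exact h
  have hzp : Subgroup.zpowers (y : G) = R := by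
    apply Subgroup.eq_of_le_of_card_ge
    · rw [Subgroup.zpowers_le]; exact hyR'
    · rw [Nat.card_zpowers, hordy, hcardR]
  -- `s` divides the order of the normalizer
  have hsN : s ∣ Nat.card (Subgroup.normalizer (R : Set G)) := by
    have h2 : K.index = K.relIndex (Subgroup.normalizer (R : Set G)) := by
      rw [← Subgroup.relIndex_top_right, ← hfr, Subgroup.relIndex_sup_right]
    rw [h2] at hsK
    exact dvd_trans hsK (Subgroup.relIndex_dvd_card _ _)
  obtain ⟨x, hx⟩ := exists_prime_orderOf_dvd_card' s hsN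
  have hx' : orderOf (x : G) = s := by rw [Subgroup.orderOf_coe]; exact hx
  have hxn : (x : G) * (y : G) * (x : G)⁻¹ ∈ Subgroup.zpowers (y : G) := by
    rw [hzp]
    exact (Subgroup.mem_normalizer_iff.1 x.2 (y : G)).1 hyR'
  obtain ⟨g, hg⟩ := F_exists_orderOf_mul_of_normalizes hs hq (Ne.symm hne) hsq (x : G) (y : G) hx' hordy hxn
  exact ⟨g, by rw [hg, mul_comm]⟩

end Cfsg.Agent.S3420L
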