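import Mathlib

set_option autoImplicit false

namespace Cfsg.Agent.S3420L

theorem QC_card {G : Type*} [Group G] [Finite G] {N H : Subgroup G} [N.Normal] (hNH : N ≤ H) :
    Nat.card (↥H ⧸ N.subgroupOf H) * Nat.card N = Nat.card H := by
  have h1 : Nat.card (↥H ⧸ N.subgroupOf H) = (N.subgroupOf H).index := rfl
  have h2 : Nat.card (N.subgroupOf H) = Nat.card N :=
    Nat.card_congr (Subgroup.subgroupOfEquivOfLe hNH).toEquiv
  rw [h1, ← h2, mul_comm]
  exact Subgroup.card_mul_index (N.subgroupOf H)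

theorem QC_not_comm {Q : Type*} [Group Q] [Finite Q] [IsSimpleGroup Q] {p r : ℕ} (hp : p.Prime) (hr : r.Prime)
    (hpr : p ≠ r) (h1 : p ∣ Nat.card Q) (h2 : r ∣ Nat.card Q) : ¬ IsMulCommutative Q := by
  intro hc
  letI : CommGroup Q := { (inferInstance : Group Q) with mul_comm := fun a b => hc.is_comm.comm a b }
  have hprime : (Nat.card Q).Prime := IsSimpleGroup.prime_card
  have hp' : p = Nat.card Q := (Nat.prime_dvd_prime_iff_eq hp hprime).mp h1
  have hr' : r = Nat.card Q := (Nat.prime_dvd_prime_iff_eq hr hprime).mp h2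
  exact hpr (hp'.trans hr'.symm)

end Cfsg.Agent.S3420L
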