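import Mathlib

/-!
# S3420 piece QT (helper8): simplicity of the section `H / N` from the subgroup-level statement
-/

set_option autoImplicit false
set_option linter.unusedSectionVars false

namespace Cfsg.Agent.S3420L

theorem QT_simple_of_forall {G : Type*} [Group G] [Finite G] {N H : Subgroup G} [N.Normal] [H.Normal]
    (hNH : N < H)
    (hS : ∀ M : Subgroup G, N ≤ M → M ≤ H → H ≤ Subgroup.normalizer (M : Set G) → M = N ∨ M = H) :
    IsSimpleGroup (↥H ⧸ N.subgroupOf H) := by
  have hle : N ≤ H := hNH.le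
  -- the quotient is nontrivial
  have hne : N.subgroupOf H ≠ ⊤ := by
    intro h
    rw [Subgroup.subgroupOf_eq_top] at h
    exact absurd (le_antisymm hle h) hNH.ne
  have hnt : Nontrivial (↥H ⧸ N.subgroupOf H) := by
    rw [← not_subsingleton_iff_nontrivial]
    intro hsub
    apply hne
    apply Subgroup.index_eq_one.1
    rw [Subgroup.index]
    exact Nat.card_eq_one_iff_unique.2 ⟨hsub, ⟨1⟩⟩
  refine { exists_pair_ne := hnt.exists_pair_ne, eq_bot_or_eq_top_of_normal := ?_ }
  intro X hX
  set M' : Subgroup ↥H := X.comap (QuotientGroup.mk' (N.subgroupOf H)) with hM'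
  have hM'n : M'.Normal := hX.comap _
  have hker : N.subgroupOf H ≤ M' := by
    intro x hx
    rw [hM', Subgroup.mem_comap]
    have : (QuotientGroup.mk' (N.subgroupOf H)) x = 1 := by
      rw [QuotientGroup.mk'_apply, QuotientGroup.eq_one_iff]; exact hx
    rw [this]; exact X.one_mem
  set M : Subgroup G := M'.map H.subtype with hM
  have hMH : M ≤ H := by
    rw [hM]; exact Subgroup.map_subtype_le M'
  have hNM : N ≤ M := by
    intro x hx
    rw [hM, Subgroup.mem_map]
    exact ⟨⟨x, hle hx⟩, hker (by rw [Subgroup.mem_subgroupOf]; exact hx), rfl⟩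
  have hnorm : H ≤ Subgroup.normalizer (M : Set G) := by
    intro h hh
    rw [Subgroup.mem_normalizer_iff]
    intro x
    constructor
    · intro hx
      rw [hM, Subgroup.mem_map] at hx ⊢
      obtain ⟨x', hx', rfl⟩ := hx
      exact ⟨⟨h, hh⟩ * x' * ⟨h, hh⟩⁻¹, hM'n.conj_mem x' hx' ⟨h, hh⟩, rfl⟩
    · intro hx
      rw [hM, Subgroup.mem_map] at hx ⊢
      obtain ⟨x', hx', hx'e⟩ := hx
      refine ⟨⟨h, hh⟩⁻¹ * x' * ⟨h, hh⟩, ?_, ?_⟩
      · have := hM'n.conj_mem x' hx' ⟨h, hh⟩⁻¹
        simpa using this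
      · simp only [Subgroup.coe_subtype, Subgroup.coe_mul, Subgroup.coe_inv] at hx'e ⊢
        rw [hx'e]; group
  have hXeq : X = M'.map (QuotientGroup.mk' (N.subgroupOf H)) := by
    rw [hM', Subgroup.map_comap_eq_self_of_surjective (QuotientGroup.mk'_surjective _)]
  rcases hS M hNM hMH hnorm with h | h
  · left
    -- `M' = N.subgroupOf H`
    have hM'eq : M' = N.subgroupOf H := by
      apply le_antisymm _ hker
      intro x hx
      rw [Subgroup.mem_subgroupOf, ← h, hM, Subgroup.mem_map]
      exact ⟨x, hx, rfl⟩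
    rw [hXeq, hM'eq]
    ext q
    rw [Subgroup.mem_map, Subgroup.mem_bot]
    constructor
    · rintro ⟨x, hx, rfl⟩
      rw [QuotientGroup.mk'_apply, QuotientGroup.eq_one_iff]; exact hx
    · rintro rfl
      exact ⟨1, Subgroup.one_mem _, map_one _⟩
  · right
    have hM'eq : M' = ⊤ := by
      rw [eq_top_iff]
      intro x _
      have hx : (x : G) ∈ M := by rw [h]; exact x.2
      rw [hM, Subgroup.mem_map] at hx
      obtain ⟨x', hx', hx'e⟩ := hx
      have : x' = x := Subtype.ext hx'e
      rw [← this]; exact hx'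
    rw [hXeq, hM'eq, ← MonoidHom.range_eq_map, MonoidHom.range_eq_top]
    exact QuotientGroup.mk'_surjective _

end Cfsg.Agent.S3420L
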