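import Mathlib
import Cfsg.Agent.Lib.S3419.NT4
import Cfsg.Agent.Lib.S3419.AN
import Cfsg.Agent.Lib.S3420.F
import Cfsg.Agent.Lib.S3420.AR
import Cfsg.Agent.Lib.S3420.CS
import Cfsg.Agent.Lib.S3420.QT
import Cfsg.Agent.Lib.S3420.QC

set_option autoImplicit false
set_option linter.style.haveILetI false

namespace Cfsg.Agent.S3420L

/-! # S3420 : assembly (helper4) -/

theorem exists_simple_chief_factor {G : Type*} [Group G] [Finite G] (p : ℕ) (hp : p.Prime)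
    (hp1 : p ∣ Nat.card G) (hp2 : ¬ p ^ 2 ∣ Nat.card G) :
    ∃ (N H : Subgroup G) (_ : N.Normal), H.Normal ∧ N < H ∧
      IsSimpleGroup (↥H ⧸ N.subgroupOf H) ∧ p ∣ Nat.card H ∧ ¬ p ∣ Nat.card N := by
  obtain ⟨N, H, hNn, hHn, hNH, hpH, hpN, hS⟩ := CS_chief p hp hp1 hp2
  haveI := hNn
  haveI := hHn
  exact ⟨N, H, hNn, hHn, hNH, QT_simple_of_forall hNH hS, hpH, hpN⟩

/-- the abstract group-theoretic statement. -/
theorem M_section {G : Type*} [Group G] [Finite G] (P : ℕ → Prop)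
    (hprime : ∀ p, P p → p.Prime)
    (h1 : ∀ p, P p → p ∣ Nat.card G) (h2 : ∀ p, P p → ¬ p ^ 2 ∣ Nat.card G)
    (h3 : ∀ p r, P p → P r → p ≠ r → ∀ g : G, orderOf g ≠ p * r)
    (h4 : ∀ p r, P p → P r → p ≠ r → ¬ r ∣ p - 1)
    (p0 r0 : ℕ) (hp0 : P p0) (hr0 : P r0) (hne : p0 ≠ r0) :
    ∃ (N H : Subgroup G) (_ : N.Normal), H.Normal ∧ N < H ∧
      IsSimpleGroup (↥H ⧸ N.subgroupOf H) ∧ ¬ IsMulCommutative (↥H ⧸ N.subgroupOf H) ∧
      ∀ p : ℕ, P p → p ∣ Nat.card (↥H ⧸ N.subgroupOf H) := by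
  obtain ⟨N, H, hNn, hHn, hNH, hsimple, hpH, hpN⟩ :=
    exists_simple_chief_factor (G := G) p0 (hprime p0 hp0) (h1 p0 hp0) (h2 p0 hp0)
  haveI := hNn
  haveI := hHn
  haveI := hsimple
  have hcard := QC_card (N := N) (H := H) hNH.le
  have hdiv : ∀ p, P p → p ∣ Nat.card (↥H ⧸ N.subgroupOf H) := by
    intro r hr
    by_cases hrp : r = p0
    · subst hrp
      have h : r ∣ Nat.card (↥H ⧸ N.subgroupOf H) * Nat.card N := by rw [hcard]; exact hpH
      exact ((hprime r hr).dvd_mul.1 h).resolve_right hpN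
    · by_contra hnd
      have hG : Nat.card (↥H ⧸ N.subgroupOf H) * Nat.card N * H.index = Nat.card G := by
        rw [hcard]; exact H.card_mul_index
      have hrG : r ∣ Nat.card (↥H ⧸ N.subgroupOf H) * Nat.card N * H.index := by
        rw [hG]; exact h1 r hr
      rcases (hprime r hr).dvd_mul.1 hrG with h | h
      · rcases (hprime r hr).dvd_mul.1 h with h | h
        · exact hnd h
        · have hp0N : p0 ∣ N.index := by
            have h' : p0 ∣ Nat.card N * N.index := by rw [N.card_mul_index]; exact h1 p0 hp0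
            exact ((hprime p0 hp0).dvd_mul.1 h').resolve_left hpN
          obtain ⟨g, hg⟩ := exists_orderOf_eq_mul N r p0 (hprime r hr) (hprime p0 hp0) hrp h
            (h2 r hr) hp0N (h4 r p0 hr hp0 hrp)
          exact h3 r p0 hr hp0 hrp g hg
      · obtain ⟨g, hg⟩ := exists_orderOf_eq_mul H p0 r (hprime p0 hp0) (hprime r hr) (Ne.symm hrp)
          hpH (h2 p0 hp0) h (h4 p0 r hp0 hr (Ne.symm hrp))
        exact h3 p0 r hp0 hr (Ne.symm hrp) g hg
  refine ⟨N, H, hNn, hHn, hNH, hsimple, ?_, hdiv⟩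
  exact QC_not_comm (hprime p0 hp0) (hprime r0 hr0) hne (hdiv p0 hp0) (hdiv r0 hr0)

theorem result {G : Type*} [Group G] [Finite G] (n : ℕ) (hn : 11 ≤ n)
    (hcard : Nat.card G = Nat.card ↥(alternatingGroup (Fin n)))
    (hspec : Set.range (orderOf : G → ℕ) =
      Set.range (orderOf : ↥(alternatingGroup (Fin n)) → ℕ)) :
    ∃ (N H : Subgroup G) (_ : N.Normal), H.Normal ∧ N < H ∧
      IsSimpleGroup (↥H ⧸ N.subgroupOf H) ∧ ¬ IsMulCommutative (↥H ⧸ N.subgroupOf H) ∧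
      ∀ p : ℕ, p.Prime → n < 2 * p → p ≤ n → p ∣ Nat.card (↥H ⧸ N.subgroupOf H) := by
  obtain ⟨p0, r0, hp0, hr0, hlt, hp0n, hr0n⟩ := Cfsg.Agent.S3419L.two_primes n hn
  have key := M_section (G := G) (fun p => p.Prime ∧ n < 2 * p ∧ p ≤ n) (fun p h => h.1)
    (fun p h => by rw [hcard]; exact prime_dvd_card_alt hn h.1 h.2.1 h.2.2)
    (fun p h => by rw [hcard]; exact prime_sq_not_dvd_card_alt hn h.1 h.2.1 h.2.2)
    (by
      intro p r hp hr hne g hg
      have hmem : orderOf g ∈ Set.range (orderOf : ↥(alternatingGroup (Fin n)) → ℕ) := by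
        rw [← hspec]; exact Set.mem_range_self g
      obtain ⟨σ, hσ⟩ := hmem
      have h1 : orderOf (σ : Equiv.Perm (Fin n)) = p * r := by
        rw [Subgroup.orderOf_coe, hσ, hg]
      exact Cfsg.Agent.S3419L.no_orderOf_mul_primes hp.1 hr.1 hne (by omega) _ h1)
    (fun p r hp hr hne => not_dvd_pred hn hp.1 hr.1 hne hp.2.1 hp.2.2 hr.2.1 hr.2.2)
    p0 r0 ⟨hp0, by omega, hp0n⟩ ⟨hr0, hr0n, by omega⟩ (by omega)
  obtain ⟨N, H, hN, hH, hlt', hs, hnc, hd⟩ := key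
  exact ⟨N, H, hN, hH, hlt', hs, hnc, fun p hp h1 h2 => hd p ⟨hp, h1, h2⟩⟩

end Cfsg.Agent.S3420L
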